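import Cfsg.Agent.H447.IFO.Solv
import Cfsg.Agent.H447.IFO.PSp

/-!
# S5719, `PSp_2m(q)`, `|A|` odd (helper447)

`psp_oddA` : no counterexample to S5719 in `PSp_2m(q)`, `m ≥ 2`, with `A` of odd order.
-/

set_option autoImplicit false
set_option linter.unusedSectionVars false

namespace Cfsg.Agent.H447.IFO

open Cfsg Cfsg.Agent.H209.Fxy
open scoped Matrix
open Cfsg.Agent.ClassicalGeometry.SympBasic Cfsg.Agent.ClassicalGeometry.SympSiegel
  Cfsg.Agent.ClassicalGeometry.SympAutSemi Cfsg.Agent.ClassicalGeometry.SympAutExists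

variable {F : Type*} [Field F] {m : ℕ}

local notation "V" => (Fin m ⊕ Fin m → F)
local notation "G" => Matrix.symplecticGroup (Fin m) F
local notation "f" => sympForm m F

/-- the fixed space -/
def fixS (H : Subgroup G) : Submodule F V where
  carrier := {v | ∀ h ∈ H, h • v = v}
  zero_mem' := fun h _ => smul_zero' h
  add_mem' := fun {a b} ha hb h hh => by rw [smul_add', ha h hh, hb h hh]
  smul_mem' := fun c v hv h hh => by rw [smul_smul', hv h hh]

/-- the radical of the fixed space -/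
def radS (H : Subgroup G) : Submodule F V := fixS H ⊓ perp (sympBilin m F) (fixS H)

theorem eq_top_of_perp {W : Submodule F V} (h : perp (sympBilin m F) W = ⊥) : W = ⊤ := by
  by_contra hW
  obtain ⟨φ, hφ, hWφ⟩ := Submodule.exists_le_ker_of_lt_top W (lt_top_iff_ne_top.2 hW)
  have hinj : Function.Injective ((sympBilin m F).flip : V →ₗ[F] Module.Dual F V) := by
    rw [injective_iff_map_eq_zero]
    intro n hn
    apply eq_zero_of_forall_sympForm_left
    intro w
    exact LinearMap.congr_fun hn w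
  have hsurj : Function.Surjective ((sympBilin m F).flip : V →ₗ[F] Module.Dual F V) := by
    rw [← LinearMap.range_eq_top]
    apply Submodule.eq_top_of_finrank_eq
    rw [LinearMap.finrank_range_of_inj hinj, Subspace.dual_finrank_eq]
  obtain ⟨u, hu⟩ := hsurj φ
  have h1 : u ∈ perp (sympBilin m F) W := by
    intro w hw
    have : φ w = 0 := hWφ hw
    rw [← hu] at this
    exact this
  rw [h, Submodule.mem_bot] at h1
  apply hφ
  rw [← hu, h1, map_zero]

theorem radS_ne_bot [Finite F] {p : ℕ} [Fact p.Prime] [CharP F p] {H : Subgroup G} (hH : IsPGroup p H)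
    (hne : H ≠ ⊥) : radS H ≠ ⊥ := by
  intro h
  apply hne
  have hinv : ∀ g ∈ H, ∀ v ∈ perp (sympBilin m F) (fixS H), g • v ∈ perp (sympBilin m F) (fixS H) := by
    intro g hg v hv w hw
    have h1 := hv w hw
    rw [sympBilin_apply] at h1 ⊢
    rw [← hw g hg, form_smul, h1]
  have hP : perp (sympBilin m F) (fixS H) = ⊥ := by
    by_contra hP
    let _ : MulAction H (perp (sympBilin m F) (fixS H)) :=
      { smul := fun g v => ⟨(g : G) • (v : V), hinv g g.2 v v.2⟩
        one_smul := fun v => Subtype.ext (one_smul G (v : V))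
        mul_smul := fun a b v => Subtype.ext (mul_smul (a : G) (b : G) (v : V)) }
    have hsm : ∀ (g : H) (v : perp (sympBilin m F) (fixS H)), ((g • v : perp (sympBilin m F) (fixS H)) : V) =
      (g : G) • (v : V) := fun g v => rfl
    have hdvd : p ∣ Nat.card (perp (sympBilin m F) (fixS H)) := by
      have : Fintype F := Fintype.ofFinite F
      obtain ⟨n, -, hn⟩ := FiniteField.card F p
      rw [Module.natCard_eq_pow_finrank (K := F), Nat.card_eq_fintype_card, hn]
      have h1 : Module.finrank F (perp (sympBilin m F) (fixS H)) ≠ 0 := fun h0 => hP (Submodule.finrank_eq_zero.1 h0)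
      exact dvd_pow (dvd_pow_self p n.pos.ne') h1
    have h0 : (0 : perp (sympBilin m F) (fixS H)) ∈ MulAction.fixedPoints H (perp (sympBilin m F) (fixS H)) :=
      fun g => Subtype.ext (smul_zero' g.1)
    obtain ⟨v, hv, hne'⟩ := hH.exists_fixed_point_of_prime_dvd_card_of_fixed_point _ hdvd h0
    have h2 : (v : V) ∈ radS H := by
      refine ⟨fun g hg => ?_, v.2⟩
      have := hv ⟨g, hg⟩
      exact congrArg Subtype.val this
    rw [h, Submodule.mem_bot] at h2
    exact hne' (Subtype.ext h2.symm)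
  have h3 := eq_top_of_perp hP
  rw [Subgroup.eq_bot_iff_forall]
  intro g hg
  apply ext_smul
  intro v
  have : v ∈ fixS H := by rw [h3]; exact Submodule.mem_top
  rw [this g hg, one_smul]

/-! ### semisimilitudes -/

theorem conj_smul' (γ : semiSim m F) (A : G) (v : V) : γ.1 (A • v) = conjHom m F γ A • γ.1 v := by
  have h1 := DFunLike.congr_fun (rho_conjHom γ A) (γ.1 v)
  rw [Equiv.Perm.mul_apply, Equiv.Perm.mul_apply, perm_inv_apply_self, rho_apply, rho_apply] at h1
  exact h1.symm

theorem inv_apply (γ : semiSim m F) (v : V) : γ.1 ((γ⁻¹).1 v) = v := perm_apply_inv_self γ.1 v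

theorem apply_inv (γ : semiSim m F) (v : V) : (γ⁻¹).1 (γ.1 v) = v := perm_inv_apply_self γ.1 v

theorem conj_conj (γ : semiSim m F) (A : G) : conjHom m F γ (conjHom m F γ⁻¹ A) = A := by
  rw [← MulAut.mul_apply, ← map_mul, mul_inv_cancel, map_one, MulAut.one_apply]

theorem semi_fix {γ : semiSim m F} {H : Subgroup G} (hγ : ∀ h ∈ H, conjHom m F γ⁻¹ h ∈ H) {v : V} (hv : v ∈ fixS H) :
    γ.1 v ∈ fixS H := by
  intro h hh
  have h1 := conj_smul' γ (conjHom m F γ⁻¹ h) v
  rw [conj_conj, hv _ (hγ h hh)] at h1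
  exact h1.symm

theorem semi_rad {γ : semiSim m F} {H : Subgroup G} (hγ : ∀ h ∈ H, conjHom m F γ h ∈ H)
    (hγ' : ∀ h ∈ H, conjHom m F γ⁻¹ h ∈ H) {v : V} (hv : v ∈ radS H) : γ.1 v ∈ radS H := by
  refine ⟨semi_fix hγ' hv.1, fun w hw => ?_⟩
  obtain ⟨φ, l, hl, hs⟩ := γ.2
  have h1 : (γ⁻¹).1 w ∈ fixS H := semi_fix (γ := γ⁻¹) (by rw [inv_inv]; exact hγ) hw
  have h2 := hv.2 _ h1
  rw [sympBilin_apply] at h2 ⊢
  have h3 := hs.2.2 ((γ⁻¹).1 w) v
  rw [inv_apply, h2, map_zero, mul_zero] at h3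
  exact h3

/-- inner semisimilitudes -/
def inn (g : G) : semiSim m F := ⟨rho m F g, RingEquiv.refl F, 1, one_ne_zero, isSemi_rho g⟩

theorem conjHom_inn (g A : G) : conjHom m F (inn g) A = g * A * g⁻¹ := by
  apply rho_injective
  rw [rho_conjHom, map_mul, map_mul, map_inv]
  rfl

theorem Psi_inn (g : G) : Psi m F (inn g) = MulAut.conj (pr g) := by
  ext x
  obtain ⟨y, rfl⟩ := pr_surj x
  change Psi m F (inn g) (QuotientGroup.mk y) = _
  rw [Psi_mk, conjHom_inn]
  rfl

/-- the stabiliser of a subspace -/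
def stab (U : Submodule F V) : Subgroup G where
  carrier := {g | ∀ u, g • u ∈ U ↔ u ∈ U}
  one_mem' := fun u => by rw [one_smul]
  mul_mem' := fun {a b} ha hb u => by rw [mul_smul, ha, hb]
  inv_mem' := fun {a} ha u => by rw [← ha, smul_inv_smul]

/-- the reflection in a hyperbolic plane -/
def tLin (e e' : V) : V →ₗ[F] V :=
  LinearMap.id - (2 : F) • (((sympBilin m F).flip e').smulRight e + (sympBilin m F e).smulRight e')

theorem tLin_apply (e e' v : V) : tLin e e' v = v - (2 : F) • (f v e' • e + f e v • e') := rfl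

theorem form_tLin {e e' : V} (h : f e e' = 1) (u v : V) : f (tLin e e' u) (tLin e e' v) = f u v := by
  have h' : f e' e = -1 := by rw [sympForm_swap, h]
  simp only [tLin_apply, sympForm_add_left, sympForm_add_right, sympForm_smul_left, sympForm_sub_left,
    sympForm_sub_right, sympForm_smul_right, sympForm_self, h, h']
  rw [sympForm_swap u e, sympForm_swap e' v]
  ring

/-- **The case `r = char F`.** -/
theorem char_case [Finite F] (hm : 2 ≤ m) (h2 : (2 : F) ≠ 0) [IsSimpleGroup (PSp m F)] {p : ℕ} [hp : Fact p.Prime]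
    [CharP F p] {A : Subgroup (PSp m F)} {Γ : Subgroup (MulAut (PSp m F))} (h : IF A Γ) (hodd : Odd (Nat.card A))
    {R : Subgroup (PSp m F)} (hR : R ≠ ⊥) (hx : ∀ x ∈ R, x ^ p = 1)
    (hc : ∀ x ∈ R, ∀ y ∈ R, x * y = y * x) (hinv : ∀ σ ∈ Γ, ∀ x ∈ R, σ x ∈ R) : False := by
  have hm1 : 1 ≤ m := by omega
  have hp2 : p ≠ 2 := by
    rintro rfl
    exact h2 (CharP.cast_eq_zero F 2)
  have hpo : Odd p := hp.out.odd_of_ne_two hp2
  set H := lift R p hm1 hpo hc with hHdef
  set U := radS H with hUdef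
  have hHb : H ≠ ⊥ := by
    intro hb
    apply hR
    rw [Subgroup.eq_bot_iff_forall]
    intro x hxR
    obtain ⟨g, hg, rfl⟩ := exists_mem_lift (hm := hm1) (hr := hpo) (hc := hc) hxR (hx x hxR)
    rw [← hHdef, hb, Subgroup.mem_bot] at hg
    rw [hg, pr_one]
  have hU : U ≠ ⊥ := radS_ne_bot (p := p) lift_pgroup hHb
  obtain ⟨u0, hu0, hu0'⟩ := Submodule.exists_mem_ne_zero_of_ne_bot hU
  have hiso : ∀ u ∈ U, ∀ v ∈ U, f u v = 0 := fun u hu v hv => hv.2 u hu.1
  have hΓ : ∀ σ ∈ Γ, ∃ γ : semiSim m F, Psi m F γ = σ := fun σ _ =>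
    exists_semi hm σ (Cfsg.Agent.ClassicalGeometry.SympAutOddA.recog hm (Or.inr h2) σ)
  have hΓH : ∀ γ : semiSim m F, Psi m F γ ∈ Γ → ∀ g ∈ H, conjHom m F γ g ∈ H := by
    intro γ hγ g hg
    refine ⟨?_, ?_⟩
    · have h3 := hinv _ hγ _ hg.1
      exact h3
    · rw [← map_pow, hg.2, map_one]
  have hΓU : ∀ γ : semiSim m F, Psi m F γ ∈ Γ → ∀ u, γ.1 u ∈ U ↔ u ∈ U := by
    have h3 : ∀ γ : semiSim m F, Psi m F γ ∈ Γ → ∀ u ∈ U, γ.1 u ∈ U := by
      intro γ hγ u hu
      exact semi_rad (hΓH γ hγ) (hΓH γ⁻¹ (by rw [map_inv]; exact Γ.inv_mem hγ)) hu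
    intro γ hγ u
    refine ⟨fun hu => ?_, h3 γ hγ u⟩
    have h4 := h3 γ⁻¹ (by rw [map_inv]; exact Γ.inv_mem hγ) _ hu
    rwa [apply_inv] at h4
  -- the stabiliser
  let B : Subgroup (PSp m F) := (stab U).map (QuotientGroup.mk' (Subgroup.center G))
  have hB : ∀ x, x ∈ B ↔ ∃ g ∈ stab U, pr g = x := fun x => Iff.rfl
  have hAB : A ≤ B := by
    intro a ha
    obtain ⟨g, rfl⟩ := pr_surj a
    rw [hB]
    refine ⟨g, ?_, rfl⟩
    have h3 := hΓU (inn g) (by rw [Psi_inn]; exact (h.conj _).2 ha)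
    intro u
    exact h3 u
  have hBinv : ∀ σ ∈ Γ, ∀ b ∈ B, σ b ∈ B := by
    intro σ hσ b hb
    obtain ⟨γ, rfl⟩ := hΓ σ hσ
    obtain ⟨g, hg, rfl⟩ := (hB b).1 hb
    rw [hB]
    refine ⟨conjHom m F γ g, ?_, rfl⟩
    intro u
    have h3 := conj_smul' γ g ((γ⁻¹).1 u)
    rw [inv_apply] at h3
    rw [← h3, hΓU γ hσ, hg, ← hΓU γ hσ, inv_apply]
  rcases h.max B hAB hBinv with h3 | h3
  · -- `B = A` contains an involution
    obtain ⟨e', he'⟩ := exists_form_eq_one hu0'
    let t : G := ofIso (tLin u0 e') (form_tLin he')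
    have ht : ∀ v, t • v = v - (2 : F) • (f v e' • u0 + f u0 v • e') := fun v => by
      rw [ofIso_smul, tLin_apply]
    have ht0 : t • u0 = -u0 := by
      rw [ht, he', sympForm_self, zero_smul, add_zero, one_smul, two_smul]
      abel
    have htt : t * t = 1 := by
      apply ext_smul
      intro v
      rw [mul_smul, one_smul, ht (t • v), ht v]
      simp only [sympForm_sub_left, sympForm_sub_right, sympForm_add_left, sympForm_add_right, sympForm_smul_left,
        sympForm_smul_right, sympForm_self, he']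
      module
    have htU : t ∈ stab U := by
      have h4 : ∀ u ∈ U, t • u ∈ U := by
        intro u hu
        rw [ht, hiso u0 hu0 u hu, zero_smul, add_zero]
        exact U.sub_mem hu (U.smul_mem _ (U.smul_mem _ hu0))
      intro u
      refine ⟨fun hu => ?_, h4 u⟩
      have h5 := h4 _ hu
      rwa [← mul_smul, htt, one_smul] at h5
    have htA : pr t ∈ A := by
      rw [← h3, hB]
      exact ⟨t, htU, rfl⟩
    have hpr2 : pr t ^ 2 = 1 := by rw [← pr_pow, pow_two, htt, pr_one]
    have hne : pr t ≠ 1 := by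
      intro h1
      rw [← pr_one, eq_comm, pr_eq_iff, inv_one, one_mul] at h1
      obtain ⟨a, ha⟩ := smul_of_mem_center h1
      have ha1 : a = -1 := by
        apply smul_right_cancel_vec hu0'
        rw [← ha, ht0, neg_one_smul]
      -- every vector is in the span of `u0, e'`
      have h5 : ∀ v : V, v ∈ Submodule.span F ({u0, e'} : Set V) := by
        intro v
        have h6 := ha v
        rw [ht, ha1, neg_one_smul] at h6
        have h7 : (2 : F) • v = (2 : F) • (f v e' • u0 + f u0 v • e') := by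
          rw [two_smul F v]
          nth_rewrite 1 [← sub_add_cancel v ((2 : F) • (f v e' • u0 + f u0 v • e'))]
          rw [h6]
          abel
        have h8 : v = f v e' • u0 + f u0 v • e' := smul_right_injective _ h2 h7
        rw [h8, Submodule.mem_span_pair]
        exact ⟨_, _, rfl⟩
      have h9 : Submodule.span F ({u0, e'} : Set V) = ⊤ := by
        rw [Submodule.eq_top_iff']
        exact h5
      have h10 : Module.finrank F (Submodule.span F ({u0, e'} : Set V)) ≤ 2 := by
        classical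
        have := finrank_span_le_card (R := F) ({u0, e'} : Set V)
        refine this.trans ?_
        rw [Set.toFinset_card]
        have h11 := Finset.card_le_two (a := u0) (b := e')
        rw [← Set.toFinset_card]
        simpa using h11
      rw [h9, finrank_top, Module.finrank_fintype_fun_eq_card, Fintype.card_sum, Fintype.card_fin] at h10
      omega
    have hord : orderOf (pr t) = 2 := orderOf_eq_prime hpr2 hne
    have h12 : orderOf (pr t) ∣ Nat.card A := by
      rw [show orderOf (pr t) = orderOf (⟨pr t, htA⟩ : A) from (Subgroup.orderOf_mk _ htA).symm]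
      exact orderOf_dvd_natCard _
    rw [hord] at h12
    exact (Nat.not_even_iff_odd.2 hodd) (even_iff_two_dvd.2 h12)
  · -- `B = ⊤`
    obtain ⟨w, hw⟩ := exists_form_eq_one hu0'
    have h4 : pr (transv w (1 : F)) ∈ B := by rw [h3]; exact Subgroup.mem_top _
    obtain ⟨g, hg, hg'⟩ := (hB _).1 h4
    rw [pr_eq_iff] at hg'
    obtain ⟨a, ha⟩ := smul_of_mem_center hg'
    have h5 : transv w (1 : F) • u0 = g • (a • u0) := by
      rw [← ha u0, ← mul_smul, mul_inv_cancel_left]
    have h6 : transv w (1 : F) • u0 ∈ U := by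
      rw [h5]
      exact (hg _).2 (U.smul_mem a hu0)
    rw [transv_smul, hw, mul_one, one_smul] at h6
    have h7 : w ∈ U := by
      have := U.sub_mem h6 hu0
      rwa [add_sub_cancel_left] at this
    rw [hiso u0 hu0 w h7] at hw
    exact zero_ne_one hw

/-- **The cell `CellsPSp.oddA`.** -/
theorem psp_oddA (F : Type*) [Field F] [Fintype F] (m : ℕ) (hm : 2 ≤ m) (hs : IsSimpleGroup (PSp m F)) :
    KillO (PSp m F) := by
  intro A Γ h hodd
  obtain ⟨r, R, hr, hr2, hRA, hR, hpow, hcomm, hinv⟩ := exists_elemAb h hodd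
  by_cases hrF : (r : F) = 0
  · obtain ⟨p, hp⟩ := CharP.exists F
    have hpp : Fact p.Prime := ⟨CharP.char_is_prime F p⟩
    have h1 : p ∣ r := (CharP.cast_eq_zero_iff F p r).1 hrF
    have h2 : p = r := (Nat.prime_dvd_prime_iff_eq hpp.out hr).1 h1
    subst h2
    have h2F : (2 : F) ≠ 0 := by
      intro h3
      have h4 : p ∣ 2 := (CharP.cast_eq_zero_iff F p 2).1 (by exact_mod_cast h3)
      exact hr2 ((Nat.prime_dvd_prime_iff_eq hr Nat.prime_two).1 h4)
    exact char_case hm h2F h hodd hR hpow hcomm hinv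
  · obtain ⟨x, hx⟩ := exists_even_normaliser (by omega : 1 ≤ m) hr hr2 hrF R hpow hcomm
    have h1 : ∀ k ∈ R, x * k * x⁻¹ ∈ R := fun k hk => by rw [hx k hk]; exact R.inv_mem hk
    have h2 := odd_orderOf h hodd hRA hR hinv h1
    obtain ⟨⟨k, hk⟩, hk1'⟩ := Subgroup.ne_bot_iff_exists_ne_one.1 hR
    have hk1 : k ≠ 1 := fun h3 => hk1' (Subtype.ext h3)
    exact (Nat.not_even_iff_odd.2 h2) (even_orderOf_of_inv hk1 (hr.odd_of_ne_two hr2) (hpow k hk) (hx k hk))

end Cfsg.Agent.H447.IFO
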