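import Cfsg.Agent.H209.IF.Kill
import Cfsg.Agent.H680.IF.EngA
import Cfsg.Agent.S0205

/-!
# S5719, `|A|` odd: a `Γ`-invariant elementary abelian subgroup (helper447)

By the odd order theorem `A` is solvable, so it contains a `Γ`-invariant elementary abelian `r`-group `R ≠ 1`,
and every element of `T` normalising `R` is in `A`, hence has odd order.
-/

set_option autoImplicit false

namespace Cfsg.Agent.H447.IFO

open Subgroup Cfsg.Agent.H209.Fxy
open scoped commutatorElement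

variable {T : Type*} [Group T] {A : Subgroup T} {Γ : Subgroup (MulAut T)}

/-- the derived series of `A` inside `T` -/
def Der (A : Subgroup T) : ℕ → Subgroup T
  | 0 => A
  | n + 1 => ⁅Der A n, Der A n⁆

theorem Der_eq (A : Subgroup T) (n : ℕ) : Der A n = (derivedSeries A n).map A.subtype := by
  induction n with
  | zero => rw [derivedSeries_zero, ← MonoidHom.range_eq_map, Subgroup.range_subtype]; rfl
  | succ n ih =>
    rw [derivedSeries_succ, map_commutator, ← ih]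
    rfl

theorem Der_le (A : Subgroup T) (n : ℕ) : Der A n ≤ A := by
  rw [Der_eq]
  rintro _ ⟨x, -, rfl⟩
  exact x.2

theorem Der_map {σ : MulAut T} (h : A.map σ.toMonoidHom = A) (n : ℕ) :
    (Der A n).map σ.toMonoidHom = Der A n := by
  induction n with
  | zero => exact h
  | succ n ih =>
    have h1 : Der A (n + 1) = ⁅Der A n, Der A n⁆ := rfl
    rw [h1, map_commutator, ih]

/-- **A `Γ`-invariant elementary abelian `r`-subgroup of `A`** (`|A|` odd). -/
theorem exists_elemAb [Finite T] (h : IF A Γ) (hodd : Odd (Nat.card A)) :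
    ∃ (r : ℕ) (R : Subgroup T), r.Prime ∧ r ≠ 2 ∧ R ≤ A ∧ R ≠ ⊥ ∧ (∀ x ∈ R, x ^ r = 1) ∧
      (∀ x ∈ R, ∀ y ∈ R, x * y = y * x) ∧ (∀ σ ∈ Γ, ∀ x ∈ R, σ x ∈ R) := by
  have hsol : Group.IsSolvable A := Cfsg.Agent.S0205.result hodd
  obtain ⟨n0, hn0⟩ := hsol.solvable
  have hex : ∃ n, Der A n = ⊥ := ⟨n0, by rw [Der_eq, hn0, Subgroup.map_bot]⟩
  classical
  have hfind := Nat.find_spec hex
  have hmin : ∀ k < Nat.find hex, Der A k ≠ ⊥ := fun k hk => Nat.find_min hex hk
  generalize Nat.find hex = n at hfind hmin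
  rcases n with _ | k
  · exact absurd hfind h.ne_bot
  have hk := hmin k (Nat.lt_succ_self k)
  have hcomm : ∀ x ∈ Der A k, ∀ y ∈ Der A k, x * y = y * x := by
    intro x hx y hy
    have h1 : ⁅x, y⁆ ∈ Der A (k + 1) := commutator_mem_commutator hx hy
    rw [hfind, mem_bot] at h1
    exact commutatorElement_eq_one_iff_mul_comm.1 h1
  have hne : Nat.card (Der A k) ≠ 1 := by
    intro h1
    exact hk (Subgroup.card_eq_one.1 h1)
  obtain ⟨r, hr, hrd⟩ := Nat.exists_prime_and_dvd hne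
  have hr2 : r ≠ 2 := by
    rintro rfl
    have h1 : 2 ∣ Nat.card A := hrd.trans (Subgroup.card_dvd_of_le (Der_le A k))
    exact (Nat.not_even_iff_odd.2 hodd) (even_iff_two_dvd.2 h1)
  let R : Subgroup T :=
    { carrier := {x | x ∈ Der A k ∧ x ^ r = 1}
      one_mem' := ⟨one_mem _, one_pow _⟩
      mul_mem' := by
        rintro x y ⟨hx, hx1⟩ ⟨hy, hy1⟩
        refine ⟨mul_mem hx hy, ?_⟩
        have hc : Commute x y := hcomm x hx y hy
        rw [hc.mul_pow, hx1, hy1, one_mul]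
      inv_mem' := by
        rintro x ⟨hx, hx1⟩
        exact ⟨inv_mem hx, by rw [inv_pow, hx1, inv_one]⟩ }
  refine ⟨r, R, hr, hr2, ?_, ?_, ?_, ?_, ?_⟩
  · rintro x ⟨hx, -⟩
    exact Der_le A k hx
  · intro h1
    have : Fact r.Prime := ⟨hr⟩
    obtain ⟨x, hx⟩ := exists_prime_orderOf_dvd_card' r hrd
    have h2 : (x : T) ∈ R := ⟨x.2, by
      rw [← hx, ← Subgroup.orderOf_coe, pow_orderOf_eq_one]⟩
    rw [h1, mem_bot] at h2
    have h3 : x = 1 := Subtype.ext h2
    rw [h3, orderOf_one] at hx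
    exact hr.one_lt.ne hx
  · rintro x ⟨-, hx⟩
    exact hx
  · rintro x ⟨hx, -⟩ y ⟨hy, -⟩
    exact hcomm x hx y hy
  · rintro σ hσ x ⟨hx, hx1⟩
    have hA : A.map σ.toMonoidHom = A := by
      ext a
      constructor
      · rintro ⟨b, hb, rfl⟩
        exact (h.inv σ hσ b).2 hb
      · intro ha
        refine ⟨σ⁻¹ a, (h.inv σ⁻¹ (Γ.inv_mem hσ) a).2 ha, ?_⟩
        change σ (σ⁻¹ a) = a
        exact MulAut.apply_inv_self _ σ a
    refine ⟨?_, ?_⟩
    · rw [← Der_map hA k]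
      exact ⟨x, hx, rfl⟩
    · rw [← map_pow, hx1, map_one]

/-- every element normalising `R` is in `A`: it has odd order -/
theorem odd_orderOf [Finite T] [IsSimpleGroup T] (h : IF A Γ) (hodd : Odd (Nat.card A)) {R : Subgroup T}
    (hRA : R ≤ A) (hR : R ≠ ⊥) (hinv : ∀ σ ∈ Γ, ∀ x ∈ R, σ x ∈ R) {x : T} (hx : ∀ k ∈ R, x * k * x⁻¹ ∈ R) :
    Odd (orderOf x) := by
  have h1 : x ∈ A := Cfsg.Agent.H680.Fxy.IF.norm h hRA hinv hR hx
  have h2 : orderOf x ∣ Nat.card A := by
    rw [show orderOf x = orderOf (⟨x, h1⟩ : A) from (Subgroup.orderOf_mk x h1).symm]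
    exact orderOf_dvd_natCard _
  exact Odd.of_dvd_nat hodd h2

/-- **`KillO` from elements of even order normalising elementary abelian subgroups.** -/
theorem killO_of [Finite T] [IsSimpleGroup T]
    (H : ∀ (r : ℕ) (R : Subgroup T), r.Prime → r ≠ 2 → R ≠ ⊥ → (∀ x ∈ R, x ^ r = 1) →
      (∀ x ∈ R, ∀ y ∈ R, x * y = y * x) → ∃ x : T, (∀ k ∈ R, x * k * x⁻¹ ∈ R) ∧ Even (orderOf x)) : KillO T := by
  intro A Γ h hodd
  obtain ⟨r, R, hr, hr2, hRA, hR, hpow, hcomm, hinv⟩ := exists_elemAb h hodd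
  obtain ⟨x, hx, he⟩ := H r R hr hr2 hR hpow hcomm
  exact (Nat.not_even_iff_odd.2 (odd_orderOf h hodd hRA hR hinv hx)) he

/-- An element inverting an element of odd order `≠ 1` has even order. -/
theorem even_orderOf_of_inv {x k : T} (hk : k ≠ 1) {r : ℕ} (hr : Odd r) (hkr : k ^ r = 1)
    (hx : x * k * x⁻¹ = k⁻¹) [Finite T] : Even (orderOf x) := by
  by_contra hcon
  rw [Nat.not_even_iff_odd] at hcon
  obtain ⟨j, hj⟩ := hcon
  have h1 : MulAut.conj x k = k⁻¹ := hx
  have h2 : ∀ i : ℕ, MulAut.conj (x ^ (2 * i)) k = k := by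
    intro i
    induction i with
    | zero => rw [mul_zero, pow_zero, map_one, MulAut.one_apply]
    | succ i ih =>
      have e : x ^ (2 * (i + 1)) = x ^ (2 * i) * (x * x) := by rw [← pow_two, ← pow_add]; ring_nf
      rw [e, map_mul, map_mul, MulAut.mul_apply, MulAut.mul_apply, h1, map_inv, h1, inv_inv, ih]
  have h3 : MulAut.conj (x ^ (orderOf x)) k = k := by rw [pow_orderOf_eq_one, map_one, MulAut.one_apply]
  rw [hj, pow_succ, map_mul, MulAut.mul_apply, h1, map_inv, h2] at h3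
  -- k⁻¹ = k
  have h4 : k ^ 2 = 1 := by
    rw [pow_two]
    nth_rewrite 1 [← h3]
    exact inv_mul_cancel k
  have h5 : orderOf k ∣ 2 := orderOf_dvd_of_pow_eq_one h4
  have h6 : orderOf k ∣ r := orderOf_dvd_of_pow_eq_one hkr
  have h7 : orderOf k ∣ Nat.gcd 2 r := Nat.dvd_gcd h5 h6
  have h8 : Nat.gcd 2 r = 1 := Nat.coprime_two_left.2 hr
  rw [h8, Nat.dvd_one, orderOf_eq_one_iff] at h7
  exact hk h7

end Cfsg.Agent.H447.IFO
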