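import Cfsg.Agent.H198.FC.Defs

/-!
# Subfields of degree `n` of `End_K(V)`, `n = dim V`: counting lemmas (helper447, for S5719)

* `invol_eq_pow` : an involution of a field of order `Q²` is `x ↦ x ^ Q`;
* `mem_of_comm` : `C_R(E) = E`;
* `count` : `|A₀| (|K| - 1) ≤ n N` for a subgroup `A₀` of `PGL(V)` normalising `E`, if `k ^ N = 1` for all `k ∈ E` whose
  conjugation is in `A₀`.
-/

set_option autoImplicit false
set_option linter.unusedSectionVars false

namespace Cfsg.Agent.H447.IFO
open Cfsg.Agent.H198.FC Module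

universe u v

/-- an involution of a field of order `Q²` -/
theorem invol_eq_pow {L : Type*} [Field L] [Finite L] {σ : L →+* L} (hσ : σ ≠ RingHom.id L)
    (hσ2 : ∀ x, σ (σ x) = x) {Q : ℕ} (hQ : Nat.card L = Q ^ 2) (x : L) : σ x = x ^ Q := by
  obtain ⟨p, hp⟩ := CharP.exists L
  have hpp : Fact p.Prime := ⟨CharP.char_is_prime L p⟩
  let _ : Algebra (ZMod p) L := ZMod.algebra L p
  have hcomm : σ.comp (algebraMap (ZMod p) L) = algebraMap (ZMod p) L := Subsingleton.elim _ _
  let σ' : L →ₐ[ZMod p] L := { σ with commutes' := fun r => RingHom.congr_fun hcomm r }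
  have hσ' : ∀ x, σ' x = σ x := fun x => rfl
  have hbij := FiniteField.bijective_frobeniusAlgHom_pow (ZMod p) L
  obtain ⟨l, hl⟩ := hbij.2 σ'
  have hfr : ∀ (n : ℕ) (y : L), ((FiniteField.frobeniusAlgHom (ZMod p) L) ^ n) y = y ^ p ^ n := by
    intro n y
    induction n generalizing y with
    | zero => simp
    | succ n ih =>
      rw [pow_succ', AlgHom.mul_apply, ih, pow_succ]
      show (y ^ p ^ n) ^ Fintype.card (ZMod p) = _
      rw [ZMod.card, ← pow_mul]
  have hx : ∀ y, σ y = y ^ p ^ (l : ℕ) := by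
    intro y
    rw [← hfr, ← hσ']
    exact (DFunLike.congr_fun hl y).symm
  have hcard : Nat.card L = p ^ finrank (ZMod p) L := by
    rw [Module.natCard_eq_pow_finrank (K := ZMod p), Nat.card_zmod]
  have hN : ∀ y : L, y ^ p ^ finrank (ZMod p) L = y := by
    intro y
    have : Fintype L := Fintype.ofFinite L
    rw [← hcard, Nat.card_eq_fintype_card]
    exact FiniteField.pow_card y
  have hpos : 0 < finrank (ZMod p) L := lt_of_le_of_lt (Nat.zero_le _) l.2
  have h2l : ∀ y : L, y ^ p ^ (2 * (l : ℕ)) = y := by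
    intro y
    have := hσ2 y
    rw [hx, hx, ← pow_mul, ← pow_add] at this
    rw [two_mul]
    exact this
  have key : ∀ a : ℕ, a < finrank (ZMod p) L → (∀ y : L, y ^ p ^ a = y) → a = 0 := by
    intro a ha h
    have h1 : (⟨a, ha⟩ : Fin (finrank (ZMod p) L)) = ⟨0, hpos⟩ := by
      apply hbij.1
      apply AlgHom.ext
      intro y
      change ((FiniteField.frobeniusAlgHom (ZMod p) L) ^ a) y = ((FiniteField.frobeniusAlgHom (ZMod p) L) ^ 0) y
      rw [hfr, hfr, h, pow_zero, pow_one]
    exact congrArg Fin.val h1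
  have hl0 : (l : ℕ) ≠ 0 := by
    intro h0
    apply hσ
    ext y
    rw [hx, h0, pow_zero, pow_one, RingHom.id_apply]
  have hl2 : 2 * (l : ℕ) = finrank (ZMod p) L := by
    have hlt := l.2
    rcases Nat.lt_or_ge (2 * (l : ℕ)) (finrank (ZMod p) L) with h | h
    · have := key _ h h2l
      omega
    · have h3 : 2 * (l : ℕ) - finrank (ZMod p) L = 0 := by
        apply key _ (by omega)
        intro y
        have h4 := h2l y
        have h5 : 2 * (l : ℕ) = finrank (ZMod p) L + (2 * (l : ℕ) - finrank (ZMod p) L) := by omega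
        rw [h5, pow_add, pow_mul, hN] at h4
        exact h4
      omega
  have hpQ : p ^ (l : ℕ) = Q := by
    have h6 : (p ^ (l : ℕ)) ^ 2 = Q ^ 2 := by
      rw [← pow_mul, mul_comm, hl2, ← hcard, hQ]
    exact Nat.pow_left_injective (by norm_num : 2 ≠ 0) h6
  rw [hx, hpQ]

variable {K : Type u} [Field K] {V : Type v} [AddCommGroup V] [Module K V]

/-- nonzero elements of a subfield are injective -/
theorem inj_of_field {E : Subalgebra K (R K V)} (hE : IsField E) {X : R K V} (hX : X ∈ E) (h0 : X ≠ 0) {v : V}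
    (hv : X v = 0) : v = 0 := by
  obtain ⟨Y, hY⟩ := hE.mul_inv_cancel (a := ⟨X, hX⟩) (fun h => h0 (congrArg Subtype.val h))
  have h1 : X * (Y : R K V) = 1 := congrArg Subtype.val hY
  have h2 : (Y : R K V) * X = 1 := by
    have := congrArg Subtype.val (hE.mul_comm Y ⟨X, hX⟩)
    change (Y : R K V) * X = X * (Y : R K V) at this
    rw [this, h1]
  have h3 : ((Y : R K V) * X) v = v := by rw [h2]; rfl
  rw [← h3, Module.End.mul_apply, hv, map_zero]

/-- `C_R(E) = E` if `dim E = dim V` -/
theorem mem_of_comm [Module.Finite K V] {E : Subalgebra K (R K V)} (hE : IsField E)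
    (hd : finrank K E = finrank K V) {x : R K V} (hx : ∀ X ∈ E, x * X = X * x) : x ∈ E := by
  rcases subsingleton_or_nontrivial V with hs | hs
  · have : x = 0 := LinearMap.ext fun v => Subsingleton.elim _ _
    rw [this]
    exact E.zero_mem
  obtain ⟨v, hv⟩ := exists_ne (0 : V)
  let α : E →ₗ[K] V := (LinearMap.applyₗ v) ∘ₗ E.val.toLinearMap
  have hα : ∀ X : E, α X = (X : R K V) v := fun X => rfl
  have hinj : Function.Injective α := by
    rw [injective_iff_map_eq_zero]
    intro X hX
    by_contra h0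
    apply hv
    exact inj_of_field hE X.2 (fun h => h0 (Subtype.ext h)) hX
  have hsurj : Function.Surjective α := by
    rw [← LinearMap.range_eq_top]
    apply Submodule.eq_top_of_finrank_eq
    rw [LinearMap.finrank_range_of_inj hinj, hd]
  obtain ⟨X, hX⟩ := hsurj (x v)
  have h1 : x = (X : R K V) := by
    ext w
    obtain ⟨Y, rfl⟩ := hsurj w
    rw [hα] at hX ⊢
    rw [← Module.End.mul_apply, hx _ Y.2, Module.End.mul_apply, ← hX, ← Module.End.mul_apply,
      ← Module.End.mul_apply]
    congr 1
    exact congrArg Subtype.val (hE.mul_comm Y X)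
  rw [h1]
  exact X.2

theorem finite_R' [Finite K] [Module.Finite K V] : Finite (R K V) :=
  Module.finite_of_finite K

/-- the number of `N`-th roots of `1` in a field `E` -/
theorem card_roots_le {E : Subalgebra K (R K V)} (hE : IsField E) {N : ℕ} (hN : 0 < N) [Finite (R K V)] :
    Nat.card {k : (R K V)ˣ // (k : R K V) ∈ E ∧ (k : R K V) ^ N = 1} ≤ N := by
  let _ : Field E := hE.toField
  have : NeZero N := ⟨hN.ne'⟩
  refine le_trans ?_ (card_rootsOfUnity E N)
  have hfin : Finite E := Finite.of_injective (fun X : E => (X : R K V)) Subtype.val_injective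
  have hfu : Finite Eˣ := inferInstance
  refine Nat.card_le_card_of_injective (fun k => ⟨Units.mkOfMulEqOne (⟨(k.1 : R K V), k.2.1⟩ : E)
    (⟨(k.1 : R K V), k.2.1⟩ ^ (N - 1)) ?_, ?_⟩) ?_
  · apply Subtype.ext
    change (k.1 : R K V) * (k.1 : R K V) ^ (N - 1) = 1
    rw [← pow_succ', Nat.sub_add_cancel hN, k.2.2]
  · rw [mem_rootsOfUnity]
    apply Units.ext
    rw [Units.val_pow_eq_pow_val, Units.val_mkOfMulEqOne, Units.val_one]
    apply Subtype.ext
    exact k.2.2
  · intro a b hab
    have h1 := congrArg (fun z : rootsOfUnity N E => (((z : Eˣ) : E) : R K V)) hab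
    exact Subtype.ext (Units.ext h1)

/-- **The counting lemma.** -/
theorem count [Finite K] [Module.Finite K V] [Nontrivial V] {E : Subalgebra K (R K V)} (hE : IsField E)
    (hd : finrank K E = finrank K V) {A : Subgroup (Equiv.Perm (R K V))} (hA : A ≤ IN K V)
    (hst : ∀ a ∈ A, ∀ X ∈ E, a X ∈ E) {N : ℕ} (hN : 0 < N)
    (hk : ∀ k : (R K V)ˣ, (k : R K V) ∈ E → cj K V k ∈ A → (k : R K V) ^ N = 1) :
    Nat.card A * (Nat.card K - 1) ≤ finrank K V * N := by
  have : Finite (R K V) := finite_R'
  have hfE : Finite E := Finite.of_injective (fun X : E => (X : R K V)) Subtype.val_injective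
  let Φ : A →* Equiv.Perm E :=
    { toFun := fun a =>
        { toFun := fun X => ⟨(a : Equiv.Perm (R K V)) X, hst a a.2 X X.2⟩
          invFun := fun X => ⟨(a : Equiv.Perm (R K V))⁻¹ X, hst _ (A.inv_mem a.2) X X.2⟩
          left_inv := fun X => Subtype.ext (Equiv.symm_apply_apply (a : Equiv.Perm (R K V)) _)
          right_inv := fun X => Subtype.ext (Equiv.apply_symm_apply (a : Equiv.Perm (R K V)) _) }
      map_one' := rfl
      map_mul' := fun a b => rfl }
  have hΦ : ∀ (a : A) (X : E), ((Φ a X : E) : R K V) = (a : Equiv.Perm (R K V)) X := fun a X => rfl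
  -- the range
  have hrange : Nat.card Φ.range ≤ finrank K V := by
    let _ : Field E := hE.toField
    rw [← hd]
    refine le_trans ?_ (card_algHom_le_finrank K E E)
    have hprop : ∀ g : Φ.range, (∀ X Y : E, (g : Equiv.Perm E) (X + Y) = (g : Equiv.Perm E) X + (g : Equiv.Perm E) Y) ∧
        (∀ X Y : E, (g : Equiv.Perm E) (X * Y) = (g : Equiv.Perm E) X * (g : Equiv.Perm E) Y) ∧
        ∀ s : K, (g : Equiv.Perm E) (algebraMap K E s) = algebraMap K E s := by
      rintro ⟨_, a, rfl⟩
      obtain ⟨x, hx⟩ := hA a.2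
      have hax : ∀ X : R K V, (a : Equiv.Perm (R K V)) X = x * X * ((x⁻¹ : (R K V)ˣ) : R K V) := fun X => by
        rw [← hx]; rfl
      refine ⟨fun X Y => Subtype.ext ?_, fun X Y => Subtype.ext ?_, fun s => Subtype.ext ?_⟩
      · change (a : Equiv.Perm (R K V)) ((X : R K V) + Y) = (a : Equiv.Perm (R K V)) X + (a : Equiv.Perm (R K V)) Y
        rw [hax, hax, hax, mul_add, add_mul]
      · change (a : Equiv.Perm (R K V)) ((X : R K V) * Y) = (a : Equiv.Perm (R K V)) X * (a : Equiv.Perm (R K V)) Y
        rw [hax, hax, hax]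
        simp only [mul_assoc, Units.inv_mul_cancel_left]
      · change (a : Equiv.Perm (R K V)) (algebraMap K (R K V) s) = algebraMap K (R K V) s
        rw [hax, ← Algebra.commutes, mul_assoc, Units.mul_inv, mul_one]
    refine Nat.card_le_card_of_injective (fun g =>
      ({ toFun := fun X => (g : Equiv.Perm E) X
         map_one' := by
          have := (hprop g).2.2 1
          rwa [map_one] at this
         map_mul' := (hprop g).2.1
         map_zero' := by
          have := (hprop g).2.2 0
          rwa [map_zero] at this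
         map_add' := (hprop g).1
         commutes' := (hprop g).2.2 } : E →ₐ[K] E)) ?_
    intro a b hab
    apply Subtype.ext
    apply Equiv.ext
    intro X
    exact DFunLike.congr_fun hab X
  -- the kernel
  have hker : Nat.card Φ.ker * (Nat.card K - 1) ≤ N := by
    refine le_trans ?_ (card_roots_le hE hN)
    rw [← Nat.card_units, ← Nat.card_prod]
    have hex : ∀ a : Φ.ker, ∃ k : (R K V)ˣ, (k : R K V) ∈ E ∧ cj K V k = ((a : A) : Equiv.Perm (R K V)) := by
      intro a
      obtain ⟨x, hx⟩ := hA (a : A).2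
      refine ⟨x, ?_, hx⟩
      apply mem_of_comm hE hd
      intro X hX
      have h1 : Φ (a : A) = 1 := a.2
      have h2 := congrArg (fun g : Equiv.Perm E => ((g ⟨X, hX⟩ : E) : R K V)) h1
      have h3 : ((a : A) : Equiv.Perm (R K V)) X = X := h2
      rw [← hx, cj_apply] at h3
      have h4 := congrArg (fun Z => Z * (x : R K V)) h3
      simp only [mul_assoc, Units.inv_mul, mul_one] at h4
      exact h4
    choose kk hkk1 hkk2 using hex
    let sc : Kˣ → (R K V)ˣ := fun s => Units.map (algebraMap K (R K V)).toMonoidHom s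
    have hsc : ∀ s : Kˣ, ((sc s : (R K V)ˣ) : R K V) = algebraMap K (R K V) s := fun s => rfl
    have hcsc : ∀ s : Kˣ, cj K V (sc s) = 1 := by
      intro s
      apply Equiv.ext
      intro X
      rw [cj_apply, hsc, Algebra.commutes, ← hsc, mul_assoc, Units.mul_inv, mul_one]
      rfl
    refine Nat.card_le_card_of_injective (fun as : Φ.ker × Kˣ => ⟨sc as.2 * kk as.1, ?_, ?_⟩) ?_
    · rw [Units.val_mul, hsc]
      exact E.mul_mem (E.algebraMap_mem _) (hkk1 _)
    · apply hk
      · rw [Units.val_mul, hsc]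
        exact E.mul_mem (E.algebraMap_mem _) (hkk1 _)
      · rw [map_mul, hcsc, one_mul, hkk2]
        exact (as.1 : A).2
    · rintro ⟨a, s⟩ ⟨b, t⟩ hab
      have h1 : sc s * kk a = sc t * kk b := congrArg Subtype.val hab
      have h2 := congrArg (cj K V) h1
      rw [map_mul, map_mul, hcsc, hcsc, one_mul, one_mul, hkk2, hkk2] at h2
      have h3 : a = b := Subtype.ext (Subtype.ext h2)
      subst h3
      have h4 : sc s = sc t := mul_right_cancel h1
      have h5 : (algebraMap K (R K V)) (s : K) = (algebraMap K (R K V)) (t : K) := congrArg Units.val h4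
      have h6 : s = t := Units.ext ((algebraMap K (R K V)).injective h5)
      rw [h6]
  have h1 : Nat.card Φ.ker * Nat.card Φ.range = Nat.card A := by
    rw [← Subgroup.index_ker, Subgroup.card_mul_index]
  calc Nat.card A * (Nat.card K - 1) = Nat.card Φ.range * (Nat.card Φ.ker * (Nat.card K - 1)) := by
        rw [← h1]; ring
    _ ≤ finrank K V * N := Nat.mul_le_mul hrange hker

end Cfsg.Agent.H447.IFO
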